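import Mathlib
import Cfsg.Prelude.Def_GeometricClasses
import Cfsg.Agent.Lib.Helper20.S76Defs

/-!
# S5876 piece S76-DICH (helper1): a least candidate meets a fixed space trivially or lies in it.
-/

set_option autoImplicit false
set_option linter.unusedSectionVars false
set_option linter.unusedVariables false

namespace Cfsg.Agent.Helper20.S76

open Module
open scoped commutatorElement

section lin
variable {F : Type*} [Field F] {n : ℕ}

variable (G : Subgroup (Matrix.GeneralLinearGroup (Fin n) F)) (z : Matrix.GeneralLinearGroup (Fin n) F)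

/-- PIECE S76-DICH [L1]. -/
theorem inf_fx_eq_bot_or_le {U : Submodule F (Fin n → F)} (hU : IsMinCand G z U)
    {s : Matrix.GeneralLinearGroup (Fin n) F} (hs : s ∈ conjSet G z) :
    U ⊓ fx s = ⊥ ∨ U ≤ fx s := by
  obtain ⟨⟨hU0, S, hSsub, hSne, hUK⟩, hmin⟩ := hU
  by_cases h0 : U ⊓ fx s = ⊥
  · exact Or.inl h0
  · right
    have hcand : U ⊓ fx s ∈ Cand G z := by
      refine ⟨h0, insert s S, ?_, Set.insert_nonempty s S, ?_⟩
      · intro x hx
        rcases Set.mem_insert_iff.1 hx with h | h
        · rw [h]; exact hs
        · exact hSsub h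
      · rw [hUK]
        unfold K
        rw [iInf_insert, inf_comm]
    have h1 := hmin _ hcand
    have h2 : U ⊓ fx s = U := Submodule.eq_of_le_of_finrank_le inf_le_left h1
    exact inf_eq_left.1 h2

end lin

end Cfsg.Agent.Helper20.S76
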