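import Mathlib
import Cfsg.Prelude.Def_GeometricClasses
import Cfsg.Agent.Lib.Helper20.S76Defs

/-!
# S5876 piece S76-GTAN (helper2): an element of a normal subgroup `C` commuting with all of `C`
has pairwise commuting conjugates.
-/

set_option autoImplicit false
set_option linter.unusedSectionVars false
set_option linter.unusedVariables false

namespace Cfsg.Agent.Helper20.S76

open Module
open scoped commutatorElement

section gt
variable {Γ : Type*} [Group Γ]

/-- PIECE S76-GTAN [L1]. -/
theorem an_of_mem_center {C : Subgroup Γ} (hC : C.Normal) {y : Γ} (hy : y ∈ C)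
    (hyc : ∀ c ∈ C, c * y = y * c) : AN y := by
  intro a b
  have hc : b * y * b⁻¹ ∈ C := hC.conj_mem y hy b
  have hc' : a⁻¹ * (b * y * b⁻¹) * a ∈ C := by
    have := hC.conj_mem _ hc a⁻¹
    simpa using this
  have h := hyc _ hc'
  show a * y * a⁻¹ * (b * y * b⁻¹) = b * y * b⁻¹ * (a * y * a⁻¹)
  calc a * y * a⁻¹ * (b * y * b⁻¹)
      = a * (y * (a⁻¹ * (b * y * b⁻¹) * a)) * a⁻¹ := by group
    _ = a * ((a⁻¹ * (b * y * b⁻¹) * a) * y) * a⁻¹ := by rw [h]
    _ = b * y * b⁻¹ * (a * y * a⁻¹) := by group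

end gt

end Cfsg.Agent.Helper20.S76
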