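import Mathlib
import Cfsg.Prelude.Def_GeometricClasses
import Cfsg.Agent.Lib.Helper20.S76Defs

/-!
# S5876, piece S76-GTCOMM (helper19): commutators with `g` centralise what `g` centralises.
-/

set_option autoImplicit false
set_option linter.unusedSectionVars false
set_option linter.unusedVariables false

namespace Cfsg.Agent.Helper20.S76

open Module
open scoped commutatorElement

section gt
variable {Γ : Type*} [Group Γ]

/-- PIECE S76-GTCOMM [L1]. -/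
theorem comm_centralizes {N0 : Subgroup Γ} (hN0 : N0.Normal) {g : Γ}
    (h : ∀ m ∈ N0, m * g = g * m) (x : Γ) :
    ∀ m ∈ N0, (x⁻¹ * g⁻¹ * x * g) * m = m * (x⁻¹ * g⁻¹ * x * g) := by
  intro m hm
  have h1 : m * g = g * m := h m hm
  have h2 : (x * m * x⁻¹) * g = g * (x * m * x⁻¹) := h _ (hN0.conj_mem m hm x)
  have h3 : g⁻¹ * (x * m * x⁻¹) = (x * m * x⁻¹) * g⁻¹ := by
    calc g⁻¹ * (x * m * x⁻¹) = g⁻¹ * ((x * m * x⁻¹) * g) * g⁻¹ := by group
      _ = g⁻¹ * (g * (x * m * x⁻¹)) * g⁻¹ := by rw [h2]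
      _ = (x * m * x⁻¹) * g⁻¹ := by group
  calc (x⁻¹ * g⁻¹ * x * g) * m = x⁻¹ * g⁻¹ * x * (g * m) := by group
    _ = x⁻¹ * g⁻¹ * x * (m * g) := by rw [h1]
    _ = x⁻¹ * (g⁻¹ * (x * m * x⁻¹)) * x * g := by group
    _ = x⁻¹ * ((x * m * x⁻¹) * g⁻¹) * x * g := by rw [h3]
    _ = m * (x⁻¹ * g⁻¹ * x * g) := by group

end gt

end Cfsg.Agent.Helper20.S76
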