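import Mathlib
import Cfsg.Prelude.Def_GeometricClasses
import Cfsg.Agent.Lib.Helper20.S76Defs

/-!
# S5876, piece S76-GTMIN (helper19): a minimal normal subgroup containing an element not commuting
with `g`; `g` centralises its commutator subgroup.
-/

set_option autoImplicit false
set_option linter.unusedSectionVars false
set_option linter.unusedVariables false

namespace Cfsg.Agent.Helper20.S76

open Module
open scoped commutatorElement

section gt
variable {Γ : Type*} [Group Γ]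

/-- PIECE S76-GTMIN [L1]. -/
theorem exists_min_normal [Finite Γ] [Group.IsSolvable Γ] (g : Γ) (hg : ∃ x : Γ, x * g ≠ g * x) :
    ∃ N : Subgroup Γ, N.Normal ∧ (∃ x ∈ N, x * g ≠ g * x) ∧ (⁅N, N⁆ : Subgroup Γ).Normal ∧
      ∀ m ∈ (⁅N, N⁆ : Subgroup Γ), m * g = g * m := by
  classical
  set 𝒮 : Set (Subgroup Γ) := {N | N.Normal ∧ ∃ x ∈ N, x * g ≠ g * x} with h𝒮
  have hne : 𝒮.Nonempty := by
    obtain ⟨x, hx⟩ := hg
    exact ⟨⊤, Subgroup.normal_top, x, Subgroup.mem_top x, hx⟩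
  obtain ⟨N, hN𝒮, hmin⟩ := Set.exists_min_image 𝒮 (fun N : Subgroup Γ => Nat.card N)
    (Set.toFinite 𝒮) hne
  obtain ⟨hN, x, hxN, hxg⟩ := hN𝒮
  have hNbot : N ≠ ⊥ := by
    intro hb
    rw [hb, Subgroup.mem_bot] at hxN
    apply hxg
    rw [hxN, one_mul, mul_one]
  have hlt : (⁅N, N⁆ : Subgroup Γ) < N := Group.IsSolvable.commutator_lt_of_ne_bot hNbot
  have hcn : (⁅N, N⁆ : Subgroup Γ).Normal := by
    have := hN
    exact Subgroup.commutator_normal N N
  refine ⟨N, hN, ⟨x, hxN, hxg⟩, hcn, ?_⟩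
  intro m hm
  by_contra hmg
  have hmem : (⁅N, N⁆ : Subgroup Γ) ∈ 𝒮 := ⟨hcn, m, hm, hmg⟩
  have hcard : Nat.card N ≤ Nat.card (⁅N, N⁆ : Subgroup Γ) := hmin _ hmem
  have heq : (⁅N, N⁆ : Subgroup Γ) = N := Subgroup.eq_of_le_of_card_ge hlt.le hcard
  exact hlt.ne heq

end gt

end Cfsg.Agent.Helper20.S76
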