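import Mathlib
import Cfsg.Prelude.Def_GeometricClasses
import Cfsg.Agent.Lib.Helper20.S76Defs

/-! S76-HALF (S5876, design helper20; by helper27): `2 dim fx g ≤ n + dim fx (x⁻¹ g⁻¹ x g)`. -/

set_option autoImplicit false
set_option linter.unusedSectionVars false
set_option linter.unusedVariables false

namespace Cfsg.Agent.Helper20.S76

open Module
open scoped commutatorElement

section lin
variable {F : Type*} [Field F] {n : ℕ}

theorem s76_half_mem_fx (g : Matrix.GeneralLinearGroup (Fin n) F) (v : Fin n → F) :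
    v ∈ fx g ↔ (g : Matrix (Fin n) (Fin n) F).mulVec v = v := by
  rw [Module.End.mem_eigenspace_iff, one_smul, Matrix.toLin'_apply]

theorem s76_half_inv_mulVec (a : Matrix.GeneralLinearGroup (Fin n) F) (v : Fin n → F) :
    ((a⁻¹ : Matrix.GeneralLinearGroup (Fin n) F) : Matrix (Fin n) (Fin n) F).mulVec
      ((a : Matrix (Fin n) (Fin n) F).mulVec v) = v := by
  rw [Matrix.mulVec_mulVec, ← Units.val_mul, inv_mul_cancel, Units.val_one, Matrix.one_mulVec]

theorem s76_half_mulVec_inv (a : Matrix.GeneralLinearGroup (Fin n) F) (v : Fin n → F) :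
    (a : Matrix (Fin n) (Fin n) F).mulVec
      (((a⁻¹ : Matrix.GeneralLinearGroup (Fin n) F) : Matrix (Fin n) (Fin n) F).mulVec v) = v := by
  rw [Matrix.mulVec_mulVec, ← Units.val_mul, mul_inv_cancel, Units.val_one, Matrix.one_mulVec]

/-- PIECE S76-HALF [L1]. -/
theorem two_mul_finrank_fx_le (g x : Matrix.GeneralLinearGroup (Fin n) F) :
    2 * finrank F (fx g) ≤ n + finrank F (fx (x⁻¹ * g⁻¹ * x * g)) := by
  have hinj : Function.Injective
      (Matrix.toLin' ((x⁻¹ : Matrix.GeneralLinearGroup (Fin n) F) : Matrix (Fin n) (Fin n) F)) := by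
    intro v w h
    rw [Matrix.toLin'_apply, Matrix.toLin'_apply] at h
    have h2 := congrArg (fun u => (x : Matrix (Fin n) (Fin n) F).mulVec u) h
    simp only [s76_half_mulVec_inv] at h2
    exact h2
  have hB : finrank F ((fx g).map
      (Matrix.toLin' ((x⁻¹ : Matrix.GeneralLinearGroup (Fin n) F) : Matrix (Fin n) (Fin n) F))) =
      finrank F (fx g) :=
    (LinearEquiv.finrank_eq (Submodule.equivMapOfInjective _ hinj (fx g))).symm
  have hle : fx g ⊓ (fx g).map
      (Matrix.toLin' ((x⁻¹ : Matrix.GeneralLinearGroup (Fin n) F) : Matrix (Fin n) (Fin n) F)) ≤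
      fx (x⁻¹ * g⁻¹ * x * g) := by
    rintro v ⟨hvA, ⟨a, haA, rfl⟩⟩
    rw [SetLike.mem_coe, s76_half_mem_fx] at hvA haA
    rw [Matrix.toLin'_apply] at hvA
    rw [s76_half_mem_fx, Matrix.toLin'_apply, Units.val_mul, Units.val_mul, Units.val_mul,
      ← Matrix.mulVec_mulVec, ← Matrix.mulVec_mulVec, ← Matrix.mulVec_mulVec, hvA,
      s76_half_mulVec_inv]
    have h3 : ((g⁻¹ : Matrix.GeneralLinearGroup (Fin n) F) : Matrix (Fin n) (Fin n) F).mulVec a =
        a := by
      have := s76_half_inv_mulVec g a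
      rwa [haA] at this
    rw [h3]
  have h1 := Submodule.finrank_sup_add_finrank_inf_eq (fx g) ((fx g).map
      (Matrix.toLin' ((x⁻¹ : Matrix.GeneralLinearGroup (Fin n) F) : Matrix (Fin n) (Fin n) F)))
  have h2 : finrank F ↥(fx g ⊔ (fx g).map
      (Matrix.toLin' ((x⁻¹ : Matrix.GeneralLinearGroup (Fin n) F) : Matrix (Fin n) (Fin n) F))) ≤
      n := by
    have := Submodule.finrank_le (fx g ⊔ (fx g).map
      (Matrix.toLin' ((x⁻¹ : Matrix.GeneralLinearGroup (Fin n) F) : Matrix (Fin n) (Fin n) F)))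
    rwa [Module.finrank_fin_fun] at this
  have h3 := Submodule.finrank_mono hle
  omega

end lin

end Cfsg.Agent.Helper20.S76
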