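import Mathlib
import Cfsg.Prelude.Def_GeometricClasses
import Cfsg.Agent.Lib.Helper20.S76Defs

/-!
# S5876 piece S76-INDEP: a family of subspaces pairwise separated by operators preserving every
member is independent.
-/

set_option autoImplicit false
set_option linter.unusedSectionVars false
set_option linter.unusedVariables false

namespace Cfsg.Agent.Helper20.S76

open Module
open scoped commutatorElement

section lin
variable {F : Type*} [Field F] {n : ℕ}

/-- the inductive statement behind S76-INDEP -/
theorem s76_indep_aux {ι : Type*} {V : Type*} [AddCommGroup V] [Module F V]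
    (U : ι → Submodule F V)
    (h : ∀ i j, i ≠ j → ∃ T : V →ₗ[F] V, (∀ k, ∀ u ∈ U k, T u ∈ U k) ∧ (∀ u ∈ U i, T u = 0) ∧
      (∀ u ∈ U j, T u = 0 → u = 0)) (s : Finset ι) :
    ∀ v : ι → V, (∀ i ∈ s, v i ∈ U i) → (∑ i ∈ s, v i = 0) → ∀ i ∈ s, v i = 0 := by
  classical
  induction s using Finset.induction_on with
  | empty =>
    intro v _ _ i hi
    exact absurd hi (Finset.notMem_empty i)
  | insert a s ha ih =>
    intro v hv hsum
    rw [Finset.sum_insert ha] at hsum
    have hs : ∀ j ∈ s, v j = 0 := by
      intro j hj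
      have haj : a ≠ j := fun hh => ha (hh ▸ hj)
      obtain ⟨T, hT1, hT2, hT3⟩ := h a j haj
      have hTa : T (v a) = 0 := hT2 _ (hv a (Finset.mem_insert_self a s))
      have h1 : ∑ i ∈ s, T (v i) = 0 := by
        have h2 := congrArg T hsum
        rw [map_add, map_sum, hTa, zero_add, map_zero] at h2
        exact h2
      have h3 := ih (fun i => T (v i))
        (fun i hi => hT1 i _ (hv i (Finset.mem_insert_of_mem hi))) h1 j hj
      exact hT3 _ (hv j (Finset.mem_insert_of_mem hj)) h3
    have hs0 : ∑ i ∈ s, v i = 0 := Finset.sum_eq_zero hs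
    rw [hs0, add_zero] at hsum
    intro i hi
    rcases Finset.mem_insert.1 hi with rfl | hi
    · exact hsum
    · exact hs i hi

/-- PIECE S76-INDEP [L1, abstract linear algebra].  A finite family of subspaces that can be pairwise separated by
operators preserving every member is independent.  Induction on the size of the support of a vanishing sum
`∑ u_i = 0`, `u_i ∈ U i`: for `i ≠ j` in the support apply `T`: `∑_{k ≠ i} T u_k = 0` is shorter, so `T u_j = 0`,
`u_j = 0`.  (`iSupIndep_iff_forall_dfinsupp` / `iSupIndep_of_dfinsupp_lsum_injective` / `Finset` sums.) -/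
theorem indep_of_separating {ι : Type*} [Finite ι] {V : Type*} [AddCommGroup V] [Module F V]
    (U : ι → Submodule F V)
    (h : ∀ i j, i ≠ j → ∃ T : V →ₗ[F] V, (∀ k, ∀ u ∈ U k, T u ∈ U k) ∧ (∀ u ∈ U i, T u = 0) ∧
      (∀ u ∈ U j, T u = 0 → u = 0)) : iSupIndep U := by
  rw [iSupIndep_iff_finsetSum_eq_zero_imp_eq_zero]
  intro s v hv hsum
  exact s76_indep_aux U h s v hv hsum

end lin

end Cfsg.Agent.Helper20.S76
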