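import Mathlib
import Cfsg.Prelude.Def_GeometricClasses
import Cfsg.Agent.Lib.Helper20.S76Defs

/-!
# S5876 piece S76-INV: commuting conjugates map each candidate into itself.
-/

set_option autoImplicit false
set_option linter.unusedSectionVars false
set_option linter.unusedVariables false

namespace Cfsg.Agent.Helper20.S76

open Module
open scoped commutatorElement

section lin
variable {F : Type*} [Field F] {n : ℕ}

/-- membership in the fixed space. -/
theorem s76_inv_mem_fx {g : Matrix.GeneralLinearGroup (Fin n) F} {v : Fin n → F} :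
    v ∈ fx g ↔ (g : Matrix (Fin n) (Fin n) F).mulVec v = v := by
  rw [Module.End.mem_eigenspace_iff, one_smul, Matrix.toLin'_apply]

/-- commuting elements preserve each other's fixed spaces. -/
theorem s76_inv_mulVec_mem_fx {s t : Matrix.GeneralLinearGroup (Fin n) F} (h : Commute s t)
    {v : Fin n → F} (hv : v ∈ fx t) :
    (s : Matrix (Fin n) (Fin n) F).mulVec v ∈ fx t := by
  rw [s76_inv_mem_fx] at hv ⊢
  have hm : (t : Matrix (Fin n) (Fin n) F) * (s : Matrix (Fin n) (Fin n) F) =
      (s : Matrix (Fin n) (Fin n) F) * (t : Matrix (Fin n) (Fin n) F) := by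
    have := congrArg (fun g : Matrix.GeneralLinearGroup (Fin n) F =>
      (g : Matrix (Fin n) (Fin n) F)) h.eq
    simpa using this.symm
  rw [Matrix.mulVec_mulVec, hm, ← Matrix.mulVec_mulVec, hv]

variable (G : Subgroup (Matrix.GeneralLinearGroup (Fin n) F)) (z : Matrix.GeneralLinearGroup (Fin n) F)

/-- PIECE S76-INV [L1]. -/
theorem mv_le_of_an (hAN : ANin G z) {U : Submodule F (Fin n → F)} (hU : U ∈ Cand G z)
    {s : Matrix.GeneralLinearGroup (Fin n) F} (hs : s ∈ conjSet G z) : mv s U ≤ U := by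
  obtain ⟨-, S, hS, -, rfl⟩ := hU
  obtain ⟨a, ha, rfl⟩ := hs
  rintro _ ⟨v, hv, rfl⟩
  rw [Matrix.toLin'_apply]
  have hv' : v ∈ K S := hv
  simp only [K, Submodule.mem_iInf] at hv' ⊢
  intro t ht
  obtain ⟨b, hb, rfl⟩ := hS ht
  exact s76_inv_mulVec_mem_fx (hAN a ha b hb) (hv' _ ht)

end lin

end Cfsg.Agent.Helper20.S76
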