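import Mathlib
import Cfsg.Prelude.Def_GeometricClasses
import Cfsg.Agent.Lib.Helper20.S76Defs

/-!
# S5876, piece S76-IRR: the span of the `G`-orbit of a non-zero subspace is everything.
-/

set_option autoImplicit false
set_option linter.unusedSectionVars false
set_option linter.unusedVariables false

namespace Cfsg.Agent.Helper20.S76

open Module
open scoped commutatorElement

section lin
variable {F : Type*} [Field F] {n : ℕ}

variable (G : Subgroup (Matrix.GeneralLinearGroup (Fin n) F)) (z : Matrix.GeneralLinearGroup (Fin n) F)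

theorem s76_irr_coe_mul (a b : G) :
    (((b * a : G) : Matrix.GeneralLinearGroup (Fin n) F) : Matrix (Fin n) (Fin n) F) =
      ((b : Matrix.GeneralLinearGroup (Fin n) F) : Matrix (Fin n) (Fin n) F) *
        ((a : Matrix.GeneralLinearGroup (Fin n) F) : Matrix (Fin n) (Fin n) F) := by
  rw [Subgroup.coe_mul, Units.val_mul]

theorem s76_irr_map_mv (a b : G) (U : Submodule F (Fin n → F)) :
    (mv (a : Matrix.GeneralLinearGroup (Fin n) F) U).map
      (Matrix.toLin' ((b : Matrix.GeneralLinearGroup (Fin n) F) : Matrix (Fin n) (Fin n) F)) =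
      mv ((b * a : G) : Matrix.GeneralLinearGroup (Fin n) F) U := by
  unfold mv
  rw [s76_irr_coe_mul, Matrix.toLin'_mul, Submodule.map_comp]

theorem s76_irr_mv_one (U : Submodule F (Fin n → F)) :
    mv ((1 : G) : Matrix.GeneralLinearGroup (Fin n) F) U = U := by
  unfold mv
  rw [Subgroup.coe_one, Units.val_one, Matrix.toLin'_one, Submodule.map_id]

/-- PIECE S76-IRR [L1]. -/
theorem iSup_mv_eq_top (hirr : Cfsg.Geo.ActsIrreducibly (Cfsg.Geo.matrixSet G))
    {U : Submodule F (Fin n → F)} (hU0 : U ≠ ⊥) :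
    (⨆ a : G, mv (a : Matrix.GeneralLinearGroup (Fin n) F) U) = ⊤ := by
  have hinv : ∀ s ∈ Cfsg.Geo.matrixSet G,
      (⨆ a : G, mv (a : Matrix.GeneralLinearGroup (Fin n) F) U).map (Matrix.toLin' s) ≤
        ⨆ a : G, mv (a : Matrix.GeneralLinearGroup (Fin n) F) U := by
    rintro s ⟨b, hb0, rfl⟩
    have hb : b ∈ G := SetLike.mem_coe.1 hb0
    beta_reduce
    rw [Submodule.map_iSup]
    apply iSup_le
    intro a
    have h1 := s76_irr_map_mv G a ⟨b, hb⟩ U
    have h2 : (mv (a : Matrix.GeneralLinearGroup (Fin n) F) U).map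
        (Matrix.toLin' (b : Matrix (Fin n) (Fin n) F)) =
        mv (((⟨b, hb⟩ : G) * a : G) : Matrix.GeneralLinearGroup (Fin n) F) U := h1
    exact le_trans (le_of_eq h2)
      (le_iSup (fun a : G => mv (a : Matrix.GeneralLinearGroup (Fin n) F) U) ((⟨b, hb⟩ : G) * a))
  rcases hirr _ hinv with h | h
  · exfalso
    apply hU0
    have h1 : mv ((1 : G) : Matrix.GeneralLinearGroup (Fin n) F) U ≤
        ⨆ a : G, mv (a : Matrix.GeneralLinearGroup (Fin n) F) U :=
      le_iSup (fun a : G => mv (a : Matrix.GeneralLinearGroup (Fin n) F) U) 1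
    rw [s76_irr_mv_one, h] at h1
    exact le_bot_iff.1 h1
  · exact h

end lin

end Cfsg.Agent.Helper20.S76
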