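import Mathlib
import Cfsg.Prelude.Def_GeometricClasses
import Cfsg.Agent.Lib.Helper20.S76Defs

/-! S76-MIN (S5876, design helper20; by helper27): a candidate of least dimension exists. -/

set_option autoImplicit false
set_option linter.unusedSectionVars false
set_option linter.unusedVariables false

namespace Cfsg.Agent.Helper20.S76

open Module
open scoped commutatorElement

section lin
variable {F : Type*} [Field F] {n : ℕ}

variable (G : Subgroup (Matrix.GeneralLinearGroup (Fin n) F)) (z : Matrix.GeneralLinearGroup (Fin n) F)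

/-- PIECE S76-MIN [L1]. -/
theorem exists_isMinCand (hz : z ∈ G) (h : fx z ≠ ⊥) : ∃ U, IsMinCand G z U := by
  classical
  have hmem : fx z ∈ Cand G z := by
    refine ⟨h, {z}, ?_, Set.singleton_nonempty z, ?_⟩
    · intro s hs
      rw [Set.mem_singleton_iff] at hs
      exact ⟨1, G.one_mem, by rw [hs]; simp⟩
    · unfold K
      simp
  have hP : ∃ d : ℕ, ∃ U ∈ Cand G z, finrank F U = d := ⟨_, fx z, hmem, rfl⟩
  obtain ⟨U, hU, hUd⟩ := Nat.find_spec hP
  refine ⟨U, hU, ?_⟩
  intro U' hU'
  rw [hUd]
  exact Nat.find_min' hP ⟨U', hU', rfl⟩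

end lin

end Cfsg.Agent.Helper20.S76
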