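import Mathlib
import Cfsg.Prelude.Def_GeometricClasses
import Cfsg.Agent.Lib.Helper20.S76Defs

/-!
# S5876, piece S76-MV (helper4 for helper20)

`a ∈ G` maps least candidates to least candidates: `a (fx s) = fx (a s a⁻¹)`, `a (K S) = K (a S a⁻¹)`.
-/

set_option autoImplicit false
set_option linter.unusedSectionVars false
set_option linter.unusedVariables false

namespace Cfsg.Agent.Helper20.S76

open Module

section lin
variable {F : Type*} [Field F] {n : ℕ}

/-- `a⁻¹ (a v) = v` -/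
theorem s76_mv_inv_apply (a : Matrix.GeneralLinearGroup (Fin n) F) (v : Fin n → F) :
    Matrix.toLin' ((a⁻¹ : Matrix.GeneralLinearGroup (Fin n) F) : Matrix (Fin n) (Fin n) F)
      (Matrix.toLin' (a : Matrix (Fin n) (Fin n) F) v) = v := by
  rw [← LinearMap.comp_apply, ← Matrix.toLin'_mul, ← Units.val_mul, inv_mul_cancel, Units.val_one,
    Matrix.toLin'_one, LinearMap.id_apply]

/-- `a (a⁻¹ v) = v` -/
theorem s76_mv_apply_inv (a : Matrix.GeneralLinearGroup (Fin n) F) (v : Fin n → F) :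
    Matrix.toLin' (a : Matrix (Fin n) (Fin n) F)
      (Matrix.toLin' ((a⁻¹ : Matrix.GeneralLinearGroup (Fin n) F) : Matrix (Fin n) (Fin n) F) v)
        = v := by
  rw [← LinearMap.comp_apply, ← Matrix.toLin'_mul, ← Units.val_mul, mul_inv_cancel, Units.val_one,
    Matrix.toLin'_one, LinearMap.id_apply]

theorem s76_mv_injective (a : Matrix.GeneralLinearGroup (Fin n) F) :
    Function.Injective (Matrix.toLin' (a : Matrix (Fin n) (Fin n) F)) := by
  intro v w h
  have := congrArg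
    (Matrix.toLin' ((a⁻¹ : Matrix.GeneralLinearGroup (Fin n) F) : Matrix (Fin n) (Fin n) F)) h
  rwa [s76_mv_inv_apply, s76_mv_inv_apply] at this

/-- `v ∈ a U ↔ a⁻¹ v ∈ U` -/
theorem s76_mv_mem_iff (a : Matrix.GeneralLinearGroup (Fin n) F) (U : Submodule F (Fin n → F))
    (v : Fin n → F) :
    v ∈ mv a U ↔
      Matrix.toLin' ((a⁻¹ : Matrix.GeneralLinearGroup (Fin n) F) : Matrix (Fin n) (Fin n) F) v
        ∈ U := by
  constructor
  · rintro ⟨u, hu, rfl⟩
    rw [s76_mv_inv_apply]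
    exact hu
  · intro h
    exact ⟨_, h, s76_mv_apply_inv a v⟩

/-- `a⁻¹ v ∈ fx s ↔ v ∈ fx (a s a⁻¹)` -/
theorem s76_mv_mem_fx_iff (a s : Matrix.GeneralLinearGroup (Fin n) F) (v : Fin n → F) :
    Matrix.toLin' ((a⁻¹ : Matrix.GeneralLinearGroup (Fin n) F) : Matrix (Fin n) (Fin n) F) v
        ∈ fx s ↔ v ∈ fx (a * s * a⁻¹) := by
  rw [Module.End.mem_eigenspace_iff, one_smul, Module.End.mem_eigenspace_iff, one_smul]
  have hmul : Matrix.toLin' ((a * s * a⁻¹ : Matrix.GeneralLinearGroup (Fin n) F) :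
        Matrix (Fin n) (Fin n) F) v =
      Matrix.toLin' (a : Matrix (Fin n) (Fin n) F) (Matrix.toLin' (s : Matrix (Fin n) (Fin n) F)
        (Matrix.toLin' ((a⁻¹ : Matrix.GeneralLinearGroup (Fin n) F) :
          Matrix (Fin n) (Fin n) F) v)) := by
    rw [Units.val_mul, Units.val_mul, Matrix.toLin'_mul, Matrix.toLin'_mul, LinearMap.comp_apply,
      LinearMap.comp_apply]
  rw [hmul]
  constructor
  · intro h
    rw [h, s76_mv_apply_inv]
  · intro h
    have := congrArg
      (Matrix.toLin' ((a⁻¹ : Matrix.GeneralLinearGroup (Fin n) F) : Matrix (Fin n) (Fin n) F)) h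
    rwa [s76_mv_inv_apply] at this

/-- `a (K S) = K (a S a⁻¹)` -/
theorem s76_mv_K (a : Matrix.GeneralLinearGroup (Fin n) F)
    (S : Set (Matrix.GeneralLinearGroup (Fin n) F)) :
    mv a (K S) = K ((fun s => a * s * a⁻¹) '' S) := by
  ext v
  rw [s76_mv_mem_iff]
  unfold K
  simp only [Submodule.mem_iInf]
  constructor
  · intro h t ht
    obtain ⟨s, hs, rfl⟩ := ht
    exact (s76_mv_mem_fx_iff a s v).1 (h s hs)
  · intro h s hs
    exact (s76_mv_mem_fx_iff a s v).2 (h _ ⟨s, hs, rfl⟩)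

theorem s76_mv_finrank (a : Matrix.GeneralLinearGroup (Fin n) F)
    (U : Submodule F (Fin n → F)) : finrank F (mv a U) = finrank F U :=
  (Submodule.equivMapOfInjective _ (s76_mv_injective a) U).finrank_eq.symm

/-- `a⁻¹ (a U) = U` -/
theorem s76_mv_inv_mv (a : Matrix.GeneralLinearGroup (Fin n) F)
    (U : Submodule F (Fin n → F)) : mv a⁻¹ (mv a U) = U := by
  ext v
  rw [s76_mv_mem_iff, s76_mv_mem_iff, inv_inv, s76_mv_inv_apply]

variable (G : Subgroup (Matrix.GeneralLinearGroup (Fin n) F)) (z : Matrix.GeneralLinearGroup (Fin n) F)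

/-- candidates are mapped to candidates -/
theorem s76_mv_cand {U : Submodule F (Fin n → F)} (hU : U ∈ Cand G z)
    {a : Matrix.GeneralLinearGroup (Fin n) F} (ha : a ∈ G) : mv a U ∈ Cand G z := by
  obtain ⟨hU0, S, hS, hSne, rfl⟩ := hU
  refine ⟨?_, (fun s => a * s * a⁻¹) '' S, ?_, hSne.image _, s76_mv_K a S⟩
  · intro h
    apply hU0
    have h1 := s76_mv_inv_mv a (K S)
    rw [h] at h1
    rw [← h1]
    exact Submodule.map_bot _
  · rintro t ⟨s, hs, rfl⟩
    obtain ⟨b, hb, rfl⟩ := hS hs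
    refine ⟨a * b, G.mul_mem ha hb, ?_⟩
    group

/-- PIECE S76-MV [L1]. -/
theorem isMinCand_mv {U : Submodule F (Fin n → F)} (hU : IsMinCand G z U)
    {a : Matrix.GeneralLinearGroup (Fin n) F} (ha : a ∈ G) : IsMinCand G z (mv a U) := by
  refine ⟨s76_mv_cand G z hU.1 ha, ?_⟩
  intro U' hU'
  rw [s76_mv_finrank]
  exact hU.2 U' hU'

end lin

end Cfsg.Agent.Helper20.S76
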