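import Mathlib
import Cfsg.Prelude.Def_GeometricClasses
import Cfsg.Agent.Lib.Helper20.S76Defs

/-!
# S5876 piece S76-PROPER (helper20): candidates are proper subspaces
-/

set_option autoImplicit false
set_option linter.unusedSectionVars false
set_option linter.unusedVariables false

namespace Cfsg.Agent.Helper20.S76

open Module

section lin
variable {F : Type*} [Field F] {n : ℕ}

/-- an invertible matrix whose fixed space is everything is the identity -/
theorem s76_proper_eq_one {s : Matrix.GeneralLinearGroup (Fin n) F} (h : fx s = ⊤) : s = 1 := by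
  apply Units.ext
  have h1 : Matrix.toLin' (s : Matrix (Fin n) (Fin n) F) = LinearMap.id := by
    apply LinearMap.ext
    intro v
    have hv : v ∈ fx s := by rw [h]; exact Submodule.mem_top
    rw [Module.End.mem_eigenspace_iff, one_smul] at hv
    simpa using hv
  have h2 : Matrix.toLin' (s : Matrix (Fin n) (Fin n) F) =
      Matrix.toLin' (1 : Matrix (Fin n) (Fin n) F) := by
    rw [h1, Matrix.toLin'_one]
  have h3 := Matrix.toLin'.injective h2
  simpa using h3

variable (G : Subgroup (Matrix.GeneralLinearGroup (Fin n) F)) (z : Matrix.GeneralLinearGroup (Fin n) F)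

/-- PIECE S76-PROPER -/
theorem ne_top_of_mem_cand (hz1 : z ≠ 1) {U : Submodule F (Fin n → F)} (hU : U ∈ Cand G z) :
    U ≠ ⊤ := by
  obtain ⟨hU0, S, hS, ⟨s, hsS⟩, rfl⟩ := hU
  intro htop
  obtain ⟨a, ha, hsa⟩ := hS hsS
  have hle : K S ≤ fx s := by
    unfold K
    exact iInf₂_le s hsS
  have hfx : fx s = ⊤ := by
    rw [htop] at hle
    exact top_le_iff.1 hle
  have hs1 : s = 1 := s76_proper_eq_one hfx
  apply hz1
  rw [hsa] at hs1
  have : z = a⁻¹ * (a * z * a⁻¹) * a := by group
  rw [this, hs1]
  group

end lin

end Cfsg.Agent.Helper20.S76
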