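import Mathlib
import Cfsg.Prelude.Def_GeometricClasses
import Cfsg.Agent.Lib.Helper20.S76Defs

/-!
# S5876 piece S76-SEP (helper7, for helper20): distinct least candidates are separated by a
conjugate.  (Self-contained: the dichotomy DICH is re-proved here as `s76_sep_dich`.)
-/

set_option autoImplicit false
set_option linter.unusedSectionVars false
set_option linter.unusedVariables false

namespace Cfsg.Agent.Helper20.S76

open Module

section lin
variable {F : Type*} [Field F] {n : ℕ}

variable (G : Subgroup (Matrix.GeneralLinearGroup (Fin n) F)) (z : Matrix.GeneralLinearGroup (Fin n) F)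

/-- local copy of the dichotomy (piece DICH) -/
theorem s76_sep_dich {U : Submodule F (Fin n → F)} (hU : IsMinCand G z U)
    {s : Matrix.GeneralLinearGroup (Fin n) F} (hs : s ∈ conjSet G z) :
    U ⊓ fx s = ⊥ ∨ U ≤ fx s := by
  by_cases h0 : U ⊓ fx s = ⊥
  · exact Or.inl h0
  · right
    obtain ⟨⟨hU0, S, hS, hSne, hUS⟩, hmin⟩ := hU
    have hK : U ⊓ fx s = K (insert s S) := by
      rw [hUS]
      unfold K
      rw [iInf_insert, inf_comm]
    have hcand : U ⊓ fx s ∈ Cand G z := by
      refine ⟨h0, insert s S, ?_, Set.insert_nonempty s S, hK⟩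
      intro t ht
      rcases Set.mem_insert_iff.1 ht with rfl | ht
      · exact hs
      · exact hS ht
    have h1 : finrank F U ≤ finrank F (U ⊓ fx s : Submodule F (Fin n → F)) := hmin _ hcand
    have h2 : U ⊓ fx s = U := Submodule.eq_of_le_of_finrank_le inf_le_left h1
    rw [← h2]
    exact inf_le_right

/-- PIECE S76-SEP. -/
theorem exists_separating {U₁ U₂ : Submodule F (Fin n → F)} (h₁ : IsMinCand G z U₁)
    (h₂ : IsMinCand G z U₂) (hne : U₁ ≠ U₂) :
    ∃ s ∈ conjSet G z, U₁ ≤ fx s ∧ U₂ ⊓ fx s = ⊥ := by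
  by_contra hcon
  push Not at hcon
  obtain ⟨⟨hU₁0, S₁, hS₁, hS₁ne, hU₁S⟩, hmin₁⟩ := h₁
  have hle : ∀ s ∈ S₁, U₁ ≤ fx s := by
    intro s hs
    rw [hU₁S]
    unfold K
    exact iInf₂_le s hs
  have h2 : U₂ ≤ U₁ := by
    rw [hU₁S]
    unfold K
    refine le_iInf₂ ?_
    intro s hs
    rcases s76_sep_dich G z h₂ (hS₁ hs) with h | h
    · exact absurd h (hcon s (hS₁ hs) (hle s hs))
    · exact h
  have h3 : finrank F U₁ ≤ finrank F U₂ := hmin₁ U₂ h₂.1
  exact hne (Submodule.eq_of_le_of_finrank_le h2 h3).symm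

end lin

end Cfsg.Agent.Helper20.S76
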