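import Mathlib
import Cfsg.Prelude.Def_GeometricClasses
import Cfsg.Agent.Lib.Helper20.S76Defs

/-!
# S5876 piece S76-DEC (helper1): an independent spanning orbit of a proper non-zero subspace is a decomposition
stabilised by `G`.
-/

set_option autoImplicit false
set_option linter.unusedSectionVars false
set_option linter.unusedVariables false

namespace Cfsg.Agent.Helper20.S76

open Module
open scoped commutatorElement

section lin
variable {F : Type*} [Field F] {n : ℕ}

theorem s76_dec_mv_mul (a b : Matrix.GeneralLinearGroup (Fin n) F) (U : Submodule F (Fin n → F)) :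
    mv a (mv b U) = mv (a * b) U := by
  show (U.map _).map _ = U.map _
  rw [← Submodule.map_comp, Units.val_mul, Matrix.toLin'_mul]

theorem s76_dec_mv_one (U : Submodule F (Fin n → F)) :
    mv (1 : Matrix.GeneralLinearGroup (Fin n) F) U = U := by
  show U.map _ = U
  rw [Units.val_one, Matrix.toLin'_one, Submodule.map_id]

theorem s76_dec_toLin_injective (a : Matrix.GeneralLinearGroup (Fin n) F) :
    Function.Injective (Matrix.toLin' (a : Matrix (Fin n) (Fin n) F)) := by
  apply Function.LeftInverse.injective
    (g := Matrix.toLin' ((a⁻¹ : Matrix.GeneralLinearGroup (Fin n) F) : Matrix (Fin n) (Fin n) F))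
  intro v
  rw [← LinearMap.comp_apply, ← Matrix.toLin'_mul, ← Units.val_mul, inv_mul_cancel, Units.val_one,
    Matrix.toLin'_one, LinearMap.id_apply]

theorem s76_dec_finrank_mv (a : Matrix.GeneralLinearGroup (Fin n) F) (U : Submodule F (Fin n → F)) :
    finrank F (mv a U) = finrank F U :=
  (Submodule.equivMapOfInjective _ (s76_dec_toLin_injective a) U).finrank_eq.symm

variable (G : Subgroup (Matrix.GeneralLinearGroup (Fin n) F)) (z : Matrix.GeneralLinearGroup (Fin n) F)

/-- PIECE S76-DEC [L1, the longest]. -/
theorem exists_decomposition [Finite F] {U : Submodule F (Fin n → F)} (hU0 : U ≠ ⊥) (hUtop : U ≠ ⊤)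
    (hind : iSupIndep (fun W : Set.range
      (fun a : G => mv (a : Matrix.GeneralLinearGroup (Fin n) F) U) => (W : Submodule F (Fin n → F))))
    (hsup : (⨆ a : G, mv (a : Matrix.GeneralLinearGroup (Fin n) F) U) = ⊤) :
    ∃ (m t : ℕ) (D : Fin t → Submodule F (Fin n → F)), 2 ≤ t ∧ Cfsg.Geo.IsMDecomposition m D ∧
      G ≤ Cfsg.Geo.decompositionStabilizer D := by
  classical
  haveI : Finite G := inferInstance
  haveI : Finite (Set.range (fun a : G => mv (a : Matrix.GeneralLinearGroup (Fin n) F) U)) :=
    Set.finite_range _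
  -- the orbit
  have hmem : ∀ W : Set.range (fun a : G => mv (a : Matrix.GeneralLinearGroup (Fin n) F) U),
      ∃ a : G, mv (a : Matrix.GeneralLinearGroup (Fin n) F) U = (W : Submodule F (Fin n → F)) :=
    fun W => W.2
  have hUmem : U ∈ Set.range (fun a : G => mv (a : Matrix.GeneralLinearGroup (Fin n) F) U) :=
    ⟨1, s76_dec_mv_one U⟩
  -- `t ≥ 2`
  have ht : 2 ≤ Nat.card (Set.range (fun a : G => mv (a : Matrix.GeneralLinearGroup (Fin n) F) U)) := by
    by_contra hlt
    have hle : Nat.card (Set.range (fun a : G => mv (a : Matrix.GeneralLinearGroup (Fin n) F) U)) ≤ 1 := by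
      omega
    haveI := (Finite.card_le_one_iff_subsingleton).1 hle
    apply hUtop
    rw [← hsup]
    apply le_antisymm
    · exact le_iSup_of_le (1 : G) (by rw [Subgroup.coe_one, s76_dec_mv_one])
    · apply iSup_le
      intro a
      have h1 : (⟨mv (a : Matrix.GeneralLinearGroup (Fin n) F) U, a, rfl⟩ :
          Set.range (fun a : G => mv (a : Matrix.GeneralLinearGroup (Fin n) F) U)) = ⟨U, hUmem⟩ :=
        Subsingleton.elim _ _
      have h2 := congrArg Subtype.val h1
      exact le_of_eq h2
  let e := Finite.equivFin (Set.range (fun a : G => mv (a : Matrix.GeneralLinearGroup (Fin n) F) U))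
  refine ⟨finrank F U, _, fun i => ((e.symm i : Set.range
    (fun a : G => mv (a : Matrix.GeneralLinearGroup (Fin n) F) U)) : Submodule F (Fin n → F)),
    ht, ⟨ht, ?_, ?_, ?_, ?_⟩, ?_⟩
  · -- `0 < m`
    exact Nat.pos_of_ne_zero fun h => hU0 (Submodule.finrank_eq_zero.1 h)
  · -- the dimensions
    intro i
    obtain ⟨a, ha⟩ := hmem (e.symm i)
    rw [← ha]
    exact s76_dec_finrank_mv _ U
  · -- independence
    exact hind.comp e.symm.injective
  · -- spanning
    rw [← hsup]
    have h1 := Equiv.iSup_comp (g := fun W : Set.range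
      (fun a : G => mv (a : Matrix.GeneralLinearGroup (Fin n) F) U) => (W : Submodule F (Fin n → F)))
      e.symm
    rw [h1]
    exact iSup_range' (fun W : Submodule F (Fin n → F) => W)
      (fun a : G => mv (a : Matrix.GeneralLinearGroup (Fin n) F) U)
  · -- the stabiliser
    intro b hb
    -- the permutation of the orbit
    let π : Set.range (fun a : G => mv (a : Matrix.GeneralLinearGroup (Fin n) F) U) →
        Set.range (fun a : G => mv (a : Matrix.GeneralLinearGroup (Fin n) F) U) := fun W =>
      ⟨mv b (W : Submodule F (Fin n → F)), by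
        obtain ⟨a, ha⟩ := hmem W
        refine ⟨⟨b, hb⟩ * a, ?_⟩
        show mv ((b : Matrix.GeneralLinearGroup (Fin n) F) * (a : Matrix.GeneralLinearGroup (Fin n) F)) U = _
        rw [← s76_dec_mv_mul, ha]⟩
    have hπinj : Function.Injective π := by
      intro W W' h
      have h1 : mv b (W : Submodule F (Fin n → F)) = mv b (W' : Submodule F (Fin n → F)) :=
        congrArg Subtype.val h
      exact Subtype.ext (Submodule.map_injective_of_injective (s76_dec_toLin_injective b) h1)
    let πe : Equiv.Perm (Set.range (fun a : G => mv (a : Matrix.GeneralLinearGroup (Fin n) F) U)) :=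
      Equiv.ofBijective π (Finite.injective_iff_bijective.1 hπinj)
    refine ⟨e.symm.trans (πe.trans e), fun i => ?_⟩
    show mv b _ = _
    simp only [Equiv.trans_apply, Equiv.symm_apply_apply]
    rfl

end lin

end Cfsg.Agent.Helper20.S76
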